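import Groth.Agent.S9651
import Groth.Agent.ConstrSets.Basic
import Mathlib

/-!
# Closed points of images of constructible sets over Jacobson rings
-/

universe u

open PrimeSpectrum Topology

namespace Groth.Agent.H2Jac

variable {R S : Type u} [CommRing R] [CommRing S] [Algebra R S] [IsJacobsonRing R] [Algebra.FiniteType R S]

theorem isClosed_image {y : PrimeSpectrum S} (hy : IsClosed ({y} : Set (PrimeSpectrum S))) :
    IsClosed ({comap (algebraMap R S) y} : Set (PrimeSpectrum R)) := by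
  haveI := (isClosed_singleton_iff_isMaximal y).mp hy
  let S' := S ⧸ y.asIdeal
  letI := Ideal.Quotient.field y.asIdeal
  haveI : Algebra.FiniteType R S' := Algebra.FiniteType.trans (R := R) (S := S) inferInstance inferInstance
  set x := comap (algebraMap R S) y
  have hx : ∀ z : PrimeSpectrum S', comap (algebraMap R S') z = x := by
    intro z
    apply PrimeSpectrum.ext
    show z.asIdeal.comap (algebraMap R S') = y.asIdeal.comap (algebraMap R S)
    have hz : z.asIdeal = ⊥ := (Ideal.eq_bot_or_top z.asIdeal).resolve_right z.2.ne_top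
    rw [hz, ← RingHom.ker_eq_comap_bot, IsScalarTower.algebraMap_eq R S S', ← RingHom.comap_ker,
      Ideal.Quotient.algebraMap_eq, Ideal.mk_ker]
  let z : PrimeSpectrum S' := ⟨⊥, Ideal.isPrime_bot⟩
  obtain ⟨U, hU, hd, hsub⟩ := S9651.result (R := R) (S := S') Set.univ IsConstructible.univ x
    ⟨z, trivial, hx z⟩
  have hxU : x ∈ U := by
    obtain ⟨w, hwU, hw⟩ : (U ∩ closure {x}).Nonempty := by
      by_contra h
      rw [Set.not_nonempty_iff_eq_empty] at h
      have := hd (subset_closure rfl)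
      rw [h, closure_empty] at this
      exact this
    obtain ⟨v, -, hv⟩ := hsub ⟨hwU, hw⟩
    rw [hx] at hv
    exact hv ▸ hwU
  refine isClosed_singleton_of_isLocallyClosed_singleton ?_
  have : ({x} : Set (PrimeSpectrum R)) = U ∩ closure {x} := by
    refine Set.Subset.antisymm (Set.singleton_subset_iff.mpr ⟨hxU, subset_closure rfl⟩) fun w hw ↦ ?_
    obtain ⟨v, -, hv⟩ := hsub hw
    rw [← hv, hx]; rfl
  rw [this]
  exact hU.isLocallyClosed.inter isClosed_closure.isLocallyClosed

theorem isClosed_of_closure_inter {X : Type*} [TopologicalSpace X] [JacobsonSpace X] {E : Set X}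
    (hE : IsConstructible E) {y : X} (hy : y ∈ E) (h : closure {y} ∩ E = {y}) : IsClosed ({y} : Set X) := by
  obtain ⟨n, L, hL, rfl⟩ := ConstrSets.exists_fin_union hE
  obtain ⟨i, hi⟩ := Set.mem_iUnion.mp hy
  obtain ⟨w, ⟨hw, hwy⟩, hwc⟩ := nonempty_inter_closedPoints (Z := L i ∩ closure {y}) ⟨y, hi, subset_closure rfl⟩
    ((hL i).inter isClosed_closure.isLocallyClosed)
  have : w = y := h.subset ⟨hwy, Set.mem_iUnion.mpr ⟨i, hw⟩⟩
  exact this ▸ hwc

theorem exists_closed_over {E : Set (PrimeSpectrum S)} [IsJacobsonRing S] (hE : IsConstructible E) {x : PrimeSpectrum R}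
    (hx : IsClosed ({x} : Set (PrimeSpectrum R))) (h : x ∈ comap (algebraMap R S) '' E) :
    ∃ y ∈ E, IsClosed ({y} : Set (PrimeSpectrum S)) ∧ comap (algebraMap R S) y = x := by
  obtain ⟨y, hy, rfl⟩ := h
  obtain ⟨n, L, hL, rfl⟩ := ConstrSets.exists_fin_union hE
  obtain ⟨i, hi⟩ := Set.mem_iUnion.mp hy
  obtain ⟨w, ⟨hw, hwx⟩, hwc⟩ := nonempty_inter_closedPoints
    (Z := L i ∩ comap (algebraMap R S) ⁻¹' {comap (algebraMap R S) y}) ⟨y, hi, rfl⟩
    ((hL i).inter (hx.preimage (continuous_comap _)).isLocallyClosed)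
  exact ⟨w, Set.mem_iUnion.mpr ⟨i, hw⟩, hwc, hwx⟩

end Groth.Agent.H2Jac
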